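import Mathlib
import Groth.Prelude.Def_W4c2ratsingkovacsGH

/-! # The homogeneous localisation of an ideal: radicals and Krull's bound -/

set_option autoImplicit false

universe u v

open HomogeneousLocalization

namespace GeomHtLib

variable {R : Type u} {A : Type v} [CommRing R] [CommRing A] [Algebra R A] (𝒜 : ℕ → Submodule R A)
  [GradedRing 𝒜]

/-- A homogeneous localisation of a Noetherian graded ring is Noetherian. -/
theorem isNoetherianRing [IsNoetherianRing A] (x : Submonoid A) :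
    IsNoetherianRing (HomogeneousLocalization 𝒜 x) := by
  classical
  let J : Ideal (HomogeneousLocalization 𝒜 x) → Ideal A := fun I =>
    Ideal.span (HomogeneousLocalization.num '' (I : Set (HomogeneousLocalization 𝒜 x)))
  have key : ∀ I g, g.num ∈ J I → g ∈ I := by
    intro I g hg
    obtain ⟨n, a, b, hab⟩ := Submodule.mem_span_set'.1 hg
    choose f hf hfb using fun i => (b i).2
    let c : Fin n → HomogeneousLocalization 𝒜 x := fun i =>
      if h : (f i).deg ≤ g.deg then
        HomogeneousLocalization.mk ⟨g.deg,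
          ⟨(DirectSum.decompose 𝒜 (a i) (g.deg - (f i).deg) : A) * (f i).den, by
            have := SetLike.mul_mem_graded (DirectSum.decompose 𝒜 (a i) (g.deg - (f i).deg)).2 (f i).den_mem_deg
            rwa [Nat.sub_add_cancel h] at this⟩,
          ⟨g.den, g.den_mem_deg⟩, g.den_mem⟩
      else 0
    have hg' : g = ∑ i, c i * f i := by
      apply HomogeneousLocalization.val_injective
      rw [g.eq_num_div_den, show (∑ i, c i * f i).val =
        ∑ i, (c i * f i).val from map_sum (algebraMap (HomogeneousLocalization 𝒜 x) (Localization x)) _ _]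
      have hdec : g.num = ∑ i, (DirectSum.decompose 𝒜 (a i * (f i).num) g.deg : A) := by
        conv_lhs => rw [← DirectSum.decompose_of_mem_same 𝒜 g.num_mem_deg, ← hab]
        rw [DirectSum.decompose_sum, DFinsupp.finsetSum_apply, Submodule.coe_sum]
        refine Finset.sum_congr rfl fun i _ => ?_
        rw [smul_eq_mul, ← hfb i]
      rw [hdec, Localization.mk_sum]
      refine Finset.sum_congr rfl fun i _ => ?_
      rw [val_mul]
      simp only [c]
      split_ifs with h
      · rw [DirectSum.coe_decompose_mul_of_right_mem_of_le 𝒜 (f i).num_mem_deg h, val_mk, (f i).eq_num_div_den,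
          Localization.mk_mul, Localization.mk_eq_mk_iff, Localization.r_iff_exists]
        refine ⟨1, ?_⟩
        simp only [OneMemClass.coe_one, one_mul, Submonoid.coe_mul]
        ring
      · rw [DirectSum.coe_decompose_mul_of_right_mem_of_not_le 𝒜 (f i).num_mem_deg h, val_zero, zero_mul,
          Localization.mk_zero]
    rw [hg']
    exact I.sum_mem fun i _ => I.mul_mem_left _ (hf i)
  have hmono : StrictMono J := fun I I' h => by
    refine lt_of_le_of_ne (Ideal.span_mono (Set.image_mono h.le)) fun he => h.ne (le_antisymm h.le fun g hg => ?_)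
    exact key I g (he ▸ Ideal.subset_span ⟨g, hg, rfl⟩)
  rw [isNoetherianRing_iff, isNoetherian_iff']
  exact hmono.wellFoundedGT

open W4c2ratsingkovacs

variable {f : A} {d : ℕ}

theorem mk_mem_iff (hf : f ∈ 𝒜 d) {I : Ideal A} {n : ℕ} {a : A} {ha : a ∈ 𝒜 (n • d)} :
    Away.mk 𝒜 hf n a ha ∈ locIdeal 𝒜 I f ↔ ∃ k : ℕ, f ^ k * a ∈ I := by
  rw [locIdeal, Ideal.mem_comap, HomogeneousLocalization.algebraMap_apply, Away.val_mk,
    Localization.mk_eq_mk', IsLocalization.mk'_mem_map_algebraMap_iff]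
  constructor
  · rintro ⟨_, ⟨k, rfl⟩, h⟩
    exact ⟨k, h⟩
  · rintro ⟨k, h⟩
    exact ⟨f ^ k, ⟨k, rfl⟩, h⟩

theorem locIdeal_mono (f : A) {I I' : Ideal A} (h : I ≤ I') : locIdeal 𝒜 I f ≤ locIdeal 𝒜 I' f :=
  Ideal.comap_mono (Ideal.map_mono h)

theorem locIdeal_eq_top {I : Ideal A} (h : f ∈ I) : locIdeal 𝒜 I f = ⊤ := by
  rw [locIdeal, Ideal.eq_top_of_isUnit_mem _ (Ideal.mem_map_of_mem _ h)
    (IsLocalization.map_units (M := Submonoid.powers f) _ ⟨f, Submonoid.mem_powers f⟩), Ideal.comap_top]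

theorem isPrime_locIdeal (_hf : f ∈ 𝒜 d) (Q : Ideal A) [hQ : Q.IsPrime] (hfQ : f ∉ Q) :
    (locIdeal 𝒜 Q f).IsPrime := by
  have : (Q.map (algebraMap A (Localization.Away f))).IsPrime :=
    IsLocalization.isPrime_of_isPrime_disjoint (Submonoid.powers f) _ Q hQ
      (Ideal.disjoint_powers_iff_notMem f hQ.isRadical |>.2 hfQ)
  exact Ideal.comap_isPrime _ _

theorem locIdeal_ne_top {J : Ideal A} {h : ℕ} (hJh : HasUniformGeomHeight 𝒜 J h) {n : ℕ} (hn : 0 < n)
    (hf : f ∈ 𝒜 n) (hfJ : f ∉ J.radical) {I : Ideal A} (hI : I ≤ J) : locIdeal 𝒜 I f ≠ ⊤ := fun he => by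
  have h1 := hJh f n hn hf hfJ
  rw [geomHeight, top_le_iff.1 (he.symm.le.trans (locIdeal_mono 𝒜 f hI)), Ideal.height_top] at h1
  exact ENat.top_ne_natCast _ h1

/-- The fraction `z ^ d / f ^ m`, for `z` of degree `m` and `f` of degree `d`. -/
noncomputable def wgt (hf : f ∈ 𝒜 d) {z : A} {m : ℕ} (hz : z ∈ 𝒜 m) : Away 𝒜 f :=
  Away.mk 𝒜 hf m (z ^ d) (by simpa [mul_comm] using SetLike.pow_mem_graded d hz)

theorem wgt_mem (hf : f ∈ 𝒜 d) {z : A} {m : ℕ} (hz : z ∈ 𝒜 m) {I : Ideal A} (hzI : z ∈ I)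
    (hd : 0 < d := by omega) : wgt 𝒜 hf hz ∈ locIdeal 𝒜 I f :=
  (mk_mem_iff 𝒜 hf).2 ⟨0, by simpa using I.pow_mem_of_mem hzI d hd⟩

theorem mem_of_wgt_mem (hf : f ∈ 𝒜 d) {z : A} {m : ℕ} (hz : z ∈ 𝒜 m) {Q : Ideal A} [hQ : Q.IsPrime]
    (hfQ : f ∉ Q) (h : wgt 𝒜 hf hz ∈ locIdeal 𝒜 Q f) : z ∈ Q := by
  obtain ⟨k, hk⟩ := (mk_mem_iff 𝒜 hf).1 h
  exact hQ.mem_of_pow_mem _ ((hQ.mem_or_mem hk).resolve_left fun h' => hfQ (hQ.mem_of_pow_mem _ h'))

/-- A prime over `I_(f)` contains `Q_(f)` for a minimal prime `Q` of `I`. -/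
theorem exists_minimalPrimes_locIdeal_le [IsNoetherianRing A] (hf : f ∈ 𝒜 d) {I : Ideal A}
    (p : Ideal (Away 𝒜 f)) [hp : p.IsPrime] (h : locIdeal 𝒜 I f ≤ p) :
    ∃ Q ∈ I.minimalPrimes, locIdeal 𝒜 Q f ≤ p := by
  classical
  let s := (Ideal.finite_minimalPrimes_of_isNoetherianRing A I).toFinset
  suffices s.inf (fun Q => locIdeal 𝒜 Q f) ≤ p by
    obtain ⟨Q, hQ, hQp⟩ := (Ideal.IsPrime.inf_le' hp).1 this
    exact ⟨Q, (Set.Finite.mem_toFinset _).1 hQ, hQp⟩
  intro x hx
  obtain ⟨n, a, ha, rfl⟩ := Away.mk_surjective 𝒜 hf x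
  rw [Submodule.mem_finsetInf] at hx
  have hfa : f * a ∈ I.radical := by
    rw [← Ideal.sInf_minimalPrimes, Submodule.mem_sInf]
    intro Q hQ
    have := hQ.1.1
    obtain ⟨k, hk⟩ := (mk_mem_iff 𝒜 hf).1 (hx Q ((Set.Finite.mem_toFinset _).2 hQ))
    rcases this.mem_or_mem hk with hk | hk
    · exact Ideal.mul_mem_right _ _ (this.mem_of_pow_mem _ hk)
    · exact Ideal.mul_mem_left _ _ hk
  obtain ⟨r, hr⟩ := hfa
  refine hp.mem_of_pow_mem r (h ?_)
  rw [locIdeal, Ideal.mem_comap, HomogeneousLocalization.algebraMap_apply, HomogeneousLocalization.val_pow,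
    Away.val_mk, Localization.mk_pow, Localization.mk_eq_mk', IsLocalization.mk'_mem_map_algebraMap_iff]
  exact ⟨f ^ r, ⟨r, rfl⟩, by rwa [← mul_pow]⟩

/-- A prime containing every `z ^ d / f ^ m` contains `I_(f)`, `I` generated by the `z`. -/
theorem locIdeal_le_of_wgt_mem (hf : f ∈ 𝒜 d) (hd : 0 < d) {S : Set A} {deg : A → ℕ}
    (hS : ∀ z ∈ S, z ∈ 𝒜 (deg z)) (p : Ideal (Away 𝒜 f)) [hp : p.IsPrime]
    (h : ∀ (z : A) (hz : z ∈ S), wgt 𝒜 hf (hS z hz) ∈ p) : locIdeal 𝒜 (Ideal.span S) f ≤ p := by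
  classical
  have key : ∀ b ∈ Ideal.span S, ∀ (c : A) (M : ℕ),
      Away.mk 𝒜 hf M (DirectSum.decompose 𝒜 (c * b) (M • d) : A) (SetLike.coe_mem _) ∈ p := by
    intro b hb
    induction hb using Submodule.span_induction with
    | mem z hz =>
      intro c M
      refine hp.mem_of_pow_mem d ?_
      by_cases hle : deg z ≤ M • d
      · have he : (DirectSum.decompose 𝒜 c (M • d - deg z) : A) ^ d ∈ 𝒜 ((M • d - deg z) • d) := by
          simpa [mul_comm] using SetLike.pow_mem_graded d (DirectSum.decompose 𝒜 c (M • d - deg z)).2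
        have heq : (Away.mk 𝒜 hf M (DirectSum.decompose 𝒜 (c * z) (M • d) : A) (SetLike.coe_mem _)) ^ d =
            Away.mk 𝒜 hf (M • d - deg z) _ he * wgt 𝒜 hf (hS z hz) := by
          apply HomogeneousLocalization.val_injective
          simp only [wgt, HomogeneousLocalization.val_pow, HomogeneousLocalization.val_mul, Away.val_mk,
            Localization.mk_pow, Localization.mk_mul]
          rw [DirectSum.coe_decompose_mul_of_right_mem_of_le 𝒜 (hS z hz) hle, mul_pow]
          congr 1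
          apply Subtype.ext
          simp only [Submonoid.coe_mul, SubmonoidClass.coe_pow, ← pow_add, ← pow_mul, smul_eq_mul]
          rw [Nat.sub_add_cancel (by simpa using hle)]
        rw [heq]
        exact p.mul_mem_left _ (h z hz)
      · have heq : Away.mk 𝒜 hf M (DirectSum.decompose 𝒜 (c * z) (M • d) : A) (SetLike.coe_mem _) = 0 := by
          apply HomogeneousLocalization.val_injective
          rw [Away.val_mk, HomogeneousLocalization.val_zero,
            DirectSum.coe_decompose_mul_of_right_mem_of_not_le 𝒜 (hS z hz) hle, Localization.mk_zero]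
        rw [heq, zero_pow hd.ne']
        exact p.zero_mem
    | zero =>
      intro c M
      convert p.zero_mem
      apply HomogeneousLocalization.val_injective
      simp [Localization.mk_zero]
    | add x y _ _ hx hy =>
      intro c M
      convert p.add_mem (hx c M) (hy c M) using 1
      apply HomogeneousLocalization.val_injective
      simp [HomogeneousLocalization.val_add, mul_add, Localization.add_mk_self]
    | smul a x _ hx =>
      intro c M
      simpa [smul_eq_mul, mul_assoc] using hx (c * a) M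
  intro x hx
  obtain ⟨n, a, ha, rfl⟩ := Away.mk_surjective 𝒜 hf x
  obtain ⟨k, hk⟩ := (mk_mem_iff 𝒜 hf).1 hx
  convert key _ hk 1 (k + n) using 1
  apply HomogeneousLocalization.val_injective
  have hmem : f ^ k * a ∈ 𝒜 ((k + n) • d) := by
    rw [add_smul]
    exact SetLike.mul_mem_graded (SetLike.pow_mem_graded k hf) ha
  simp only [Away.val_mk, one_mul, DirectSum.decompose_of_mem_same 𝒜 hmem]
  rw [Localization.mk_eq_mk_iff, Localization.r_iff_exists]
  exact ⟨1, by simp only [OneMemClass.coe_one, one_mul]; ring⟩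

/-- Krull's bound for `I_(f)`. -/
theorem height_locIdeal_le [IsNoetherianRing A] (hf : f ∈ 𝒜 d) (zs : List A)
    (hzs : ∀ z ∈ zs, ∃ m, z ∈ 𝒜 m) (hne : locIdeal 𝒜 (Ideal.ofList zs) f ≠ ⊤)
    (hd : 0 < d := by omega) : (locIdeal 𝒜 (Ideal.ofList zs) f).height ≤ zs.length := by
  classical
  have := isNoetherianRing 𝒜 (Submonoid.powers f)
  choose! deg hdeg using hzs
  let W : List (Away 𝒜 f) := zs.attach.map fun z => wgt 𝒜 hf (hdeg z.1 z.2)
  have hmem : ∀ (z : A) (hz : z ∈ zs), wgt 𝒜 hf (hdeg z hz) ∈ W :=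
    fun z hz => List.mem_map.2 ⟨⟨z, hz⟩, List.mem_attach _ _, rfl⟩
  have hWK : Ideal.ofList W ≤ locIdeal 𝒜 (Ideal.ofList zs) f := by
    refine Ideal.span_le.2 fun w hw => ?_
    obtain ⟨z, -, rfl⟩ := List.mem_map.1 hw
    exact wgt_mem 𝒜 hf (hdeg z.1 z.2) (Ideal.subset_span z.2) hd
  obtain ⟨q, hq⟩ := Ideal.nonempty_minimalPrimes (ne_top_of_le_ne_top hne hWK)
  have := hq.1.1
  have hKq : locIdeal 𝒜 (Ideal.ofList zs) f ≤ q :=
    locIdeal_le_of_wgt_mem 𝒜 hf hd (S := {z | z ∈ zs}) hdeg q fun z hz => hq.1.2 (Ideal.subset_span (hmem z hz))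
  refine (Ideal.height_mono hKq).trans ?_
  have hW : Ideal.ofList W = Ideal.span (W.toFinset : Set (Away 𝒜 f)) := by simp [Ideal.ofList]
  rw [hW] at hq
  refine (Ideal.height_le_card_of_mem_minimalPrimes_span_finset hq).trans ?_
  exact_mod_cast (W.toFinset_card_le).trans (by simp [W])

end GeomHtLib
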